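import Cfsg.Agent.SuzRecog.MS.Defs
import Cfsg.Agent.LeechModel.Words
import Cfsg.Agent.OutTab.CriterionTwo

/-!
The checks.
-/

set_option autoImplicit false
set_option maxRecDepth 100000
set_option maxHeartbeats 0

namespace Cfsg.Agent.SuzRecog.MS

open Cfsg.Agent.Compute Cfsg.Agent.StemCert Cfsg.Agent.LeechModel Cfsg.Agent.OutTab

theorem words_ok : wordsB 1782 11 7 SuzOut.Data.baseCodes Data.letters Data.codes Data.k = true := by
  decide +kernel

theorem levels_ok : wfB Data.levels = true ∧ gensBelow Data.nC Data.levels = true ∧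
    numForms Data.levels = 3317760 ∧ (∀ b ∈ Data.base, b < 1782) ∧
    distinctB 11 Data.codes Data.levels Data.base = true := by
  refine ⟨?_, ?_, ?_, ?_, distinctB_cons_of_pos (P := Data.pos0) (by decide +kernel)
    (distinctB_cons_of_pos (P := Data.pos1) (by decide +kernel)
      (distinctB_cons_of_pos (P := Data.pos2) (by decide +kernel)
        (distinctB_cons_of_pos (P := Data.pos3) (by decide +kernel)
          (distinctB_cons_of_pos (P := Data.pos4) (by decide +kernel) rfl))))⟩ <;> decide +kernel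

theorem small_ok : eqW [Data.zL, Data.zL] [] = true ∧ eqW [Data.zL] [] = false ∧
    allBelow Data.nC commB = true ∧ eqW (qW Data.oneI) [] = true ∧ Data.oneI < 128 ∧
    eqW (qW Data.wI) [Data.wL] = true ∧ Data.wI < 128 ∧
    eqW [Data.gL, Data.zL] [Data.wL, Data.zL, Data.gL] = true ∧
    eqW (Data.gL :: qW Data.tI) [Data.tL, Data.gL] = true ∧ Data.tI < 128 ∧
    Data.nC ≤ Data.k ∧ Data.qHi ≤ Data.k ∧ Data.qLo ≤ Data.qHi ∧ 0 < Data.nC ∧
    eqW [Data.tL, Data.tL] [] = true ∧ eqW [Data.tL, Data.zL] [Data.wL, Data.tL] = true ∧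
    Data.zL < Data.k ∧ Data.wL < Data.k ∧ Data.tL < Data.k ∧ Data.gL < Data.k := by
  refine ⟨?_, ?_, ?_, ?_, ?_, ?_, ?_, ?_, ?_, ?_, ?_, ?_, ?_, ?_, ?_, ?_, ?_, ?_, ?_, ?_⟩ <;>
    decide +kernel

theorem qcomm_ok : allBelow (Data.qHi - Data.qLo) (fun r => commB (Nat.add Data.qLo r)) = true := by
  decide +kernel

theorem list_ok : allBelow 128 listB = true := by decide +kernel

theorem clos_ok : allBelow ((Data.qHi - Data.qLo) * 128) closB = true := by decide +kernel

theorem norm_ok : allBelow ((Data.qHi - Data.qLo) * Data.nC) normB = true := by decide +kernel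

theorem frame_ok : allBelow 128 frameB = true := by decide +kernel

end Cfsg.Agent.SuzRecog.MS
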