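import Cfsg.Agent.SuzOut.Base
import Cfsg.Agent.SuzOut.Codes
import Cfsg.Agent.StemCert.Count
import Cfsg.Agent.SuzRecog.MS.Data

/-!
Checks for the involution, its centraliser, its frame and the swapper in the model on 1782 points.

The letters below `nC` generate the centraliser, those from `qLo` to `qHi` generate its core.
-/

set_option autoImplicit false

namespace Cfsg.Agent.SuzRecog.MS

open Cfsg.Agent.Compute Cfsg.Agent.StemCert

/-- Letters in the range with the two words equal on the base. -/
noncomputable def eqW (a b : List ℕ) : Bool :=
  allB (fun s => Nat.blt s Data.k) a && allB (fun s => Nat.blt s Data.k) b &&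
    eqOn 11 Data.codes SuzOut.Data.mainBase a b

/-- The images of the base, packed. -/
noncomputable def keyW (l : List ℕ) : ℕ :=
  List.rec (motive := fun _ => ℕ) 0
    (fun p _ r => Nat.add (appW 11 Data.codes l p) (Nat.mul 2048 r)) SuzOut.Data.mainBase

/-- A word in the letters of the centraliser. -/
noncomputable def inC (l : List ℕ) : Bool := allB (fun s => Nat.blt s Data.nC) l

/-- A word in the letters of the core. -/
noncomputable def inQ (l : List ℕ) : Bool :=
  allB (fun s => Nat.ble Data.qLo s && Nat.blt s Data.qHi) l

/-- A word of the core list. -/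
noncomputable def qW (i : ℕ) : List ℕ := Data.qList.getD i []

/-- Listed words lie in the core and their keys increase. -/
noncomputable def listB (i : ℕ) : Bool :=
  inQ (qW i) && allB (fun s => Nat.blt s Data.k) (qW i) &&
    (Nat.beq i 0 || Nat.blt (keyW (qW (Nat.sub i 1))) (keyW (qW i)))

/-- The list is closed under the generators of the core. -/
noncomputable def closB (i : ℕ) : Bool :=
  forceN (Data.clos.getD i 0) fun j => Nat.blt j 128 &&
    eqW (qW (Nat.mod i 128) ++ [Nat.add Data.qLo (Nat.div i 128)]) (qW j)

/-- The centraliser normalises the core. -/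
noncomputable def normB (i : ℕ) : Bool :=
  forceN (Data.nrm.getD i 0) fun j => Nat.blt j 128 &&
    eqW [Nat.mod i Data.nC, Nat.add Data.qLo (Nat.div i Data.nC)] (qW j ++ [Nat.mod i Data.nC])

/-- An involution of the core other than the centre is sent to the frame. -/
noncomputable def frameB (i : ℕ) : Bool :=
  !(eqW (qW i ++ qW i) []) || eqW (qW i) [] || eqW (qW i) [Data.zL] ||
    (inC (Data.mv.getD i []) && eqW (Data.mv.getD i [] ++ qW i) (Data.wL :: Data.mv.getD i []))

/-- A letter of the centraliser or of the core commutes with the involution. -/
noncomputable def commB (s : ℕ) : Bool := eqW [s, Data.zL] [Data.zL, s]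

end Cfsg.Agent.SuzRecog.MS
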